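import Mathlib

/-!
# Field lemmas for descending points with a bounded field of definition
-/

set_option autoImplicit false

universe u

open TensorProduct Polynomial

namespace Groth.Agent.EssDimLib27

/-- a relatively algebraically closed subfield containing the images, of bounded transcendence degree -/
theorem exists_bounded_closure {k K κ Ω : Type u} [Field k] [Field K] [Field κ] [Field Ω]
    [Algebra k K] [Algebra k κ] [Algebra k Ω] [Algebra K Ω] [IsScalarTower k K Ω] (f : κ →ₐ[k] Ω) :
    ∃ F : IntermediateField K Ω, (∀ a, f a ∈ F) ∧ (∀ a : Ω, IsAlgebraic F a → a ∈ F) ∧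
      Algebra.trdeg k F ≤ Algebra.trdeg k K + Algebra.trdeg k κ := by
  obtain ⟨t, ht⟩ := exists_isTranscendenceBasis k κ
  let s : Set Ω := f '' t
  let L₀ : IntermediateField K Ω := IntermediateField.adjoin K s
  let F : IntermediateField K Ω := (algebraicClosure L₀ Ω).restrictScalars K
  have hle : L₀ ≤ F := fun a ha => by
    show a ∈ algebraicClosure L₀ Ω
    exact mem_algebraicClosure_iff.2 (isAlgebraic_algebraMap (⟨a, ha⟩ : L₀))
  refine ⟨F, fun a => ?_, fun a ha => ?_, ?_⟩
  · show f a ∈ algebraicClosure L₀ Ω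
    refine mem_algebraicClosure_iff.2 (IntermediateField.isAlgebraic_adjoin_iff.2 ?_)
    have hu : Algebra.adjoin k (f '' t) ≤ (Algebra.adjoin K s).restrictScalars k :=
      Algebra.adjoin_le Algebra.subset_adjoin
    have h1 : IsAlgebraic (Algebra.adjoin k t) a := by
      have := ht.isAlgebraic
      rw [Subtype.range_coe_subtype, Set.setOf_mem_eq] at this
      exact this.isAlgebraic a
    have hmap : ∀ x : κ, x ∈ Algebra.adjoin k t → f x ∈ Algebra.adjoin K s := fun x hx => by
      refine hu ?_
      rw [← AlgHom.map_adjoin]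
      exact ⟨x, hx, rfl⟩
    let φ : Algebra.adjoin k t →+* Algebra.adjoin K s :=
      ((f : κ →+* Ω).comp (Algebra.adjoin k t).val.toRingHom).codRestrict (Algebra.adjoin K s) fun x => hmap _ x.2
    exact h1.ringHom_of_comp_eq φ (f : κ →+* Ω)
      (fun x y h => Subtype.ext (f.injective (congrArg Subtype.val h))) rfl
  · show a ∈ algebraicClosure L₀ Ω
    refine mem_algebraicClosure_iff.2 ?_
    letI : Algebra L₀ F := (IntermediateField.inclusion hle).toRingHom.toAlgebra
    have : Algebra.IsAlgebraic L₀ F := algebraicClosure.isAlgebraic L₀ Ω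
    have : IsScalarTower L₀ F Ω := IsScalarTower.of_algebraMap_eq fun x => rfl
    exact ha.restrictScalars L₀
  · rw [← trdeg_add_eq k K (A := F)]
    refine add_le_add le_rfl (le_trans ?_ ((Cardinal.mk_image_le (s := t) (f := f)).trans
      (le_of_eq ht.cardinalMk_eq_trdeg)))
    letI : Algebra L₀ F := (IntermediateField.inclusion hle).toRingHom.toAlgebra
    have : IsScalarTower K L₀ F := IsScalarTower.of_algebraMap_eq fun x => rfl
    have : Algebra.IsAlgebraic L₀ F := algebraicClosure.isAlgebraic L₀ Ω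
    rw [← trdeg_add_eq K L₀ (A := F), trdeg_eq_zero (R := L₀), add_zero]
    let s' : Set L₀ := Subtype.val ⁻¹' s
    have himg : Subtype.val '' s' = s :=
      Set.image_preimage_eq_of_subset fun a ha => ⟨⟨a, IntermediateField.subset_adjoin K s ha⟩, rfl⟩
    have htop : IntermediateField.adjoin K s' = ⊤ := by
      refine IntermediateField.map_injective L₀.val ?_
      rw [IntermediateField.adjoin_map]
      show IntermediateField.adjoin K (Subtype.val '' s') = _
      rw [himg, ← AlgHom.fieldRange_eq_map, IntermediateField.fieldRange_val]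
    have : Algebra.IsAlgebraic (Algebra.adjoin K s') L₀ := by
      refine IntermediateField.isAlgebraic_adjoin_iff_top.1 ⟨fun a => ?_⟩
      have ha : a ∈ IntermediateField.adjoin K s' := htop ▸ trivial
      exact isAlgebraic_algebraMap (⟨a, ha⟩ : IntermediateField.adjoin K s')
    refine (Algebra.IsAlgebraic.trdeg_le_cardinalMk K (A := L₀) s').trans ?_
    calc Cardinal.mk s' = Cardinal.mk (Subtype.val '' s') := (Cardinal.mk_image_eq Subtype.val_injective).symm
      _ = Cardinal.mk s := by rw [himg]
      _ ≤ _ := le_rfl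

/-- an element of `E ⊗ L` equal in `E ⊗ Ω` to an element of `E ⊗ F` comes from `E` -/
theorem exists_mem_of_tensor_eq {M E L F Ω : Type u} [Field M] [CommRing E] [Algebra M E] [Field L] [Field F]
    [Field Ω] [Algebra M L] [Algebra M F] [Algebra M Ω] (g : L →ₐ[M] Ω) (h : F →ₐ[M] Ω)
    (hM : ∀ (l : L) (f : F), g l = h f → ∃ m : M, algebraMap M L m = l) (a : E ⊗[M] L) (b : E ⊗[M] F)
    (hab : Algebra.TensorProduct.map (AlgHom.id M E) g a = Algebra.TensorProduct.map (AlgHom.id M E) h b) :
    ∃ e : E, a = e ⊗ₜ[M] (1 : L) := by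
  classical
  let bE := Module.Free.chooseBasis M E
  let eL := TensorProduct.equivFinsuppOfBasisLeft (N := L) bE
  let eF := TensorProduct.equivFinsuppOfBasisLeft (N := F) bE
  let eΩ := TensorProduct.equivFinsuppOfBasisLeft (N := Ω) bE
  have hg : ∀ (N : Type u) [CommRing N] [Algebra M N] (q : N →ₐ[M] Ω) (x : E ⊗[M] N) i,
      eΩ (Algebra.TensorProduct.map (AlgHom.id M E) q x) i =
        q (TensorProduct.equivFinsuppOfBasisLeft bE x i) := by
    intro N _ _ q x i
    induction x with
    | zero => simp
    | add x y hx hy => simp [hx, hy]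
    | tmul e n => simp [eΩ]
  have hc : ∀ i, ∃ m : M, algebraMap M L m = eL a i := fun i =>
    hM (eL a i) (eF b i) (by rw [← hg L g a i, hab, hg F h b i])
  choose m hm using hc
  refine ⟨∑ i ∈ (eL a).support, m i • bE i, eL.injective (Finsupp.ext fun j => ?_)⟩
  have hmj : ∀ i, eL a i = m i • (1 : L) := fun i => by rw [← hm i, Algebra.algebraMap_eq_smul_one]
  rw [TensorProduct.sum_tmul, map_sum, Finsupp.finsetSum_apply]
  simp only [eL, TensorProduct.smul_tmul, TensorProduct.equivFinsuppOfBasisLeft_apply_tmul_apply,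
    Module.Basis.repr_self]
  rw [Finset.sum_eq_single j]
  · rw [Finsupp.single_eq_same, one_smul]
    exact hmj j
  · intro i _ hij
    rw [Finsupp.single_eq_of_ne hij.symm, zero_smul]
  · intro hj
    rw [Finsupp.single_eq_same, one_smul, ← hmj j]
    exact Finsupp.notMem_support_iff.1 hj

/-- a finite extension stays irreducible over an extension in which the base is algebraically closed -/
theorem subsingleton_spec_tensor {M E L : Type u} [Field M] [Field E] [Algebra M E] [FiniteDimensional M E]
    [Field L] [Algebra M L] (hM : ∀ l : L, IsAlgebraic M l → ∃ m : M, algebraMap M L m = l) :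
    Subsingleton (PrimeSpectrum (E ⊗[M] L)) := by
  let Es := separableClosure M E
  obtain ⟨α, hα⟩ := Field.exists_primitive_element M Es
  have hαi : IsIntegral M α := Algebra.IsIntegral.isIntegral α
  let p := minpoly M α
  -- the polynomial stays irreducible
  have hp : Irreducible (p.map (algebraMap M L)) := by
    have hp0 : p.Monic := minpoly.monic hαi
    have hne : ¬ IsUnit (p.map (algebraMap M L)) := fun hu =>
      (minpoly.irreducible hαi).not_isUnit (by
        rw [Polynomial.isUnit_iff_degree_eq_zero] at hu ⊢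
        rwa [Polynomial.degree_map] at hu)
    obtain ⟨g, hgm, hgi, hgd⟩ := Polynomial.exists_monic_irreducible_factor _ hne
    choose c hc using fun i => hM (g.coeff i)
      (Polynomial.isIntegral_coeff_of_dvd p g hp0 hgm hgd i).isAlgebraic
    obtain ⟨g₀, hg₀, -, hg₀m⟩ := Polynomial.lifts_and_degree_eq_and_monic (f := algebraMap M L)
      ((Polynomial.lifts_iff_coeff_lifts g).2 fun i => ⟨c i, hc i⟩) hgm
    subst hg₀
    have hd : g₀ ∣ p := (Polynomial.map_dvd_map _ (algebraMap M L).injective hg₀m).1 hgd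
    have hne' : ¬ IsUnit g₀ := fun hu => hgi.not_isUnit (hu.map (Polynomial.mapRingHom (algebraMap M L)))
    have := ((minpoly.irreducible hαi).dvd_iff.1 hd).resolve_left hne'
    rw [eq_of_monic_of_associated hg₀m hp0 this.symm] at hgi
    exact hgi
  letI : Algebra L (E ⊗[M] L) := Algebra.TensorProduct.rightAlgebra
  let ψ : L[X] →ₐ[L] (E ⊗[M] L) :=
    Polynomial.aeval ((α : E) ⊗ₜ[M] (1 : L))
  have h0 : ψ (p.map (algebraMap M L)) = 0 := by
    show Polynomial.aeval ((α : E) ⊗ₜ[M] (1 : L)) (p.map (algebraMap M L)) = 0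
    rw [Polynomial.aeval_map_algebraMap]
    show Polynomial.aeval ((Algebra.TensorProduct.includeLeft.comp Es.val : Es →ₐ[M] E ⊗[M] L) α) p = 0
    rw [Polynomial.aeval_algHom_apply, minpoly.aeval, map_zero]
  have hψ : ∀ x, IsUnit (ψ x) ∨ ψ x = 0 := fun x => by
    by_cases hx : p.map (algebraMap M L) ∣ x
    · refine Or.inr ?_
      obtain ⟨y, rfl⟩ := hx
      rw [map_mul]
      rw [h0, zero_mul]
    · obtain ⟨a, b, hab⟩ := hp.coprime_iff_not_dvd.2 hx
      refine Or.inl (IsUnit.of_mul_eq_one (ψ b) ?_)
      have e := congrArg ψ hab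
      rw [map_add, map_mul, map_mul, map_one] at e
      rw [h0, mul_zero, zero_add] at e
      rw [mul_comm]
      exact e
  have hEs : ∀ e : Es, ((e : E) ⊗ₜ[M] (1 : L)) ∈ (ψ : L[X] →+* E ⊗[M] L).range := fun e => by
    have he : e ∈ Algebra.adjoin M ({α} : Set Es) := by
      rw [← IntermediateField.adjoin_simple_toSubalgebra_of_isAlgebraic hαi.isAlgebraic, hα]
      trivial
    obtain ⟨q, rfl⟩ := (Algebra.adjoin_singleton_eq_range_aeval M α ▸ he : e ∈ (Polynomial.aeval α).range)
    refine ⟨q.map (algebraMap M L), ?_⟩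
    show Polynomial.aeval ((α : E) ⊗ₜ[M] (1 : L)) (q.map (algebraMap M L)) = _
    rw [Polynomial.aeval_map_algebraMap]
    exact Polynomial.aeval_algHom_apply (Algebra.TensorProduct.includeLeft.comp Es.val : Es →ₐ[M] E ⊗[M] L) α q
  let q := ringExpChar M
  have hpow : ∀ x : E ⊗[M] L, ∃ n, x ^ q ^ n ∈ (ψ : L[X] →+* E ⊗[M] L).range := by
    intro x
    induction x with
    | zero => exact ⟨0, by simp⟩
    | tmul e l =>
      have : ExpChar Es q := expChar_of_injective_ringHom (algebraMap M Es).injective q
      obtain ⟨n, c, hc⟩ := IsPurelyInseparable.pow_mem Es q e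
      refine ⟨n, ?_⟩
      rw [Algebra.TensorProduct.tmul_pow, ← hc]
      have hsplit : (algebraMap Es E c) ⊗ₜ[M] (l ^ q ^ n) =
          ((c : E) ⊗ₜ[M] (1 : L)) * ((1 : E) ⊗ₜ[M] (l ^ q ^ n)) := by
        rw [Algebra.TensorProduct.tmul_mul_tmul, _root_.mul_one, _root_.one_mul]
        rfl
      rw [hsplit]
      refine Subring.mul_mem _ (hEs c) ⟨Polynomial.C (l ^ q ^ n), ?_⟩
      exact Polynomial.aeval_C _ _
    | add x y hx hy =>
      obtain ⟨a, ha⟩ := hx
      obtain ⟨b, hb⟩ := hy
      refine ⟨a + b, ?_⟩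
      have : Nontrivial (E ⊗[M] L) := inferInstance
      have : ExpChar (E ⊗[M] L) q := expChar_of_injective_ringHom (algebraMap M _).injective q
      rw [add_pow_expChar_pow]
      refine Subring.add_mem _ ?_ ?_
      · rw [pow_add, pow_mul]
        exact Subring.pow_mem _ ha _
      · rw [Nat.add_comm, pow_add, pow_mul]
        exact Subring.pow_mem _ hb _
  refine ⟨fun P Q => PrimeSpectrum.ext (Ideal.ext fun x => ?_)⟩
  obtain ⟨n, y, hy⟩ := hpow x
  have hq : 0 < q ^ n := pow_pos (by
    rcases expChar_is_prime_or_one M q with h | h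
    · exact h.pos
    · rw [h]; exact one_pos) _
  have key : ∀ R : PrimeSpectrum (E ⊗[M] L), x ∈ R.asIdeal ↔ x ^ q ^ n = 0 := fun R => by
    constructor
    · intro hx
      have hmem := Ideal.pow_mem_of_mem _ hx (q ^ n) hq
      rcases hψ y with h | h
      · exact absurd (Ideal.eq_top_of_isUnit_mem _ hmem (hy ▸ h)) R.2.ne_top
      · exact hy.symm.trans h
    · intro hx
      exact R.2.mem_of_pow_mem _ (hx ▸ R.asIdeal.zero_mem)
  rw [key, key]

end Groth.Agent.EssDimLib27
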