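import Groth.Agent.AlgSpLib.RelDimFormula

/-!
# Transcendence degree of a subfield of a residue field of a chart
-/

set_option autoImplicit false

universe u

open CategoryTheory CategoryTheory.Limits AlgebraicGeometry

namespace Groth.Agent.EssDimLib27

open Groth.Agent.AlgSpLib

/-- the canonical map from a field to the residue field of the point of its spectrum -/
theorem exists_residue_equiv {K : Type u} [Field K] (z : ↥(Spec (CommRingCat.of K))) :
    ∃ e : K ≃+* (Spec (CommRingCat.of K)).residueField z,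
      (Spec (CommRingCat.of K)).fromSpecResidueField z =
        Spec.map (CommRingCat.ofHom (e : K →+* (Spec (CommRingCat.of K)).residueField z)) := by
  have hb : Function.Bijective (algebraMap K z.asIdeal.ResidueField) := by
    refine ⟨(algebraMap K z.asIdeal.ResidueField).injective, ?_⟩
    have hz : z.asIdeal = ⊥ := (Ideal.eq_bot_or_top _).resolve_right z.2.ne_top
    have : z.asIdeal.IsMaximal := hz ▸ Ideal.bot_isMaximal
    exact (Ideal.algebraMap_residueField_surjective z.asIdeal)
  refine ⟨(RingEquiv.ofBijective _ hb).trans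
    (Scheme.Spec.residueFieldIso (CommRingCat.of K) z).symm.commRingCatIsoToRingEquiv, ?_⟩
  rw [← Scheme.Spec.map_residueFieldIso_inv_eq_fromSpecResidueField, ← Spec.map_comp]
  rfl

/-- a subfield of the residue field of a chart has transcendence degree at most the fibre dimension -/
theorem trdeg_le_fibreDim {U V : Scheme.{u}} {K κ : Type u} [Field K] [Field κ] [Algebra K κ]
    (h : U ⟶ V) [LocallyOfFiniteType h] (b : V ⟶ Spec (CommRingCat.of K)) [Etale b] (u : U)
    (j : Spec (CommRingCat.of (U.residueField u)) ⟶ Spec (CommRingCat.of κ))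
    (w : j ≫ Spec.map (CommRingCat.ofHom (algebraMap K κ)) = U.fromSpecResidueField u ≫ h ≫ b)
    (d : ℕ) (hd : FlatMor.fibreDimAt h u ≤ (d : WithBot ℕ∞)) :
    Cardinal.toENat (Algebra.trdeg K κ) ≤ (d : ℕ∞) := by
  obtain ⟨e, he⟩ := exists_residue_equiv ((h ≫ b) u)
  let φ : (Spec (CommRingCat.of K)).residueField ((h ≫ b) u) →+* U.residueField u :=
    ((h ≫ b).residueFieldMap u).hom
  let f : κ →+* U.residueField u := (Spec.preimage j).hom
  have hf : f.comp (algebraMap K κ) = φ.comp (e : K →+* _) := by
    have h2 : U.fromSpecResidueField u ≫ h ≫ b =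
        Spec.map ((h ≫ b).residueFieldMap u) ≫ (Spec (CommRingCat.of K)).fromSpecResidueField ((h ≫ b) u) :=
      ((h ≫ b).SpecMap_residueFieldMap_fromSpecResidueField u).symm
    rw [he, ← Spec.map_comp, ← w, ← Spec.map_preimage j, ← Spec.map_comp] at h2
    exact congrArg CommRingCat.Hom.hom (Spec.map_injective h2)
  letI a1 := φ.toAlgebra
  letI a2 := (e : K →+* (Spec (CommRingCat.of K)).residueField ((h ≫ b) u)).toAlgebra
  letI a3 := (f.comp (algebraMap K κ)).toAlgebra
  have : IsScalarTower K ((Spec (CommRingCat.of K)).residueField ((h ≫ b) u)) (U.residueField u) :=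
    IsScalarTower.of_algebraMap_eq fun x => RingHom.congr_fun hf x
  have halg : Algebra.IsAlgebraic K ((Spec (CommRingCat.of K)).residueField ((h ≫ b) u)) :=
    ⟨fun s => by
      obtain ⟨r, rfl⟩ := e.surjective s
      exact isAlgebraic_algebraMap r⟩
  have h0 : Algebra.trdeg K (U.residueField u) = Dual3.resTrdeg (h ≫ b) u := by
    rw [← trdeg_add_eq K ((Spec (CommRingCat.of K)).residueField ((h ≫ b) u)) (A := U.residueField u),
      trdeg_eq_zero, zero_add]
    rfl
  have h1 : Dual3.resTrdeg (h ≫ b) u = Dual3.resTrdeg h u := by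
    have := locallyQuasiFinite_of_etale b
    rw [resTrdeg_comp, resTrdeg_eq_zero_of_lqf, zero_add]
  have h3 : Algebra.trdeg K κ ≤ Dual3.resTrdeg h u := by
    rw [← h1, ← h0]
    exact trdeg_le_of_injective (⟨f, fun x => rfl⟩ : κ →ₐ[K] U.residueField u) f.injective
  refine (Cardinal.toENat.monotone' h3).trans ?_
  rw [fibreDimAt_eq_stalk_add_trdeg h u] at hd
  have h5 : ((Cardinal.toENat (Dual3.resTrdeg h u) : ℕ∞) : WithBot ℕ∞) ≤ ((d : ℕ∞) : WithBot ℕ∞) :=
    (le_add_of_nonneg_left ringKrullDim_nonneg_of_nontrivial).trans hd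
  exact WithBot.coe_le_coe.1 h5

end Groth.Agent.EssDimLib27
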