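import Groth.Prelude.Def_EssDim
import Groth.Prelude.Def_AlgSt5
import Groth.Agent.Stk19b.Quot.Torsor
import Groth.Agent.Stk19b.Quot.Basic
import Groth.Agent.AlgSpLib.RelDimFormula
import Groth.Agent.Stk19b.FieldDim
import Groth.Agent.EssDimLib27.FieldAlg
import Groth.Agent.EssDimLib27.Trdeg

/-!
# Essential dimension of `[X/G]` against that of `BG`

An equivariant map from a torsor defined over `K` to `X` is defined over a subfield of transcendence degree over `K`
at most the dimension of `X`.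
-/

set_option autoImplicit false
set_option linter.style.haveILetI false
set_option backward.isDefEq.respectTransparency false
set_option backward.isDefEq.respectTransparency.types false
set_option maxHeartbeats 1000000

universe u

open CategoryTheory CategoryTheory.Limits AlgebraicGeometry MonoidalCategory CartesianMonoidalCategory Opposite

open scoped TensorProduct

namespace Groth.Agent.EssDimLib27

open Groth.Agent.Stk19b Groth.Agent.Stk19b.QuotTriv Groth.Agent.Stk19b.Quot

/-- surjective, flat and quasi-compact -/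
abbrev FQ : MorphismProperty Scheme.{u} := @Surjective ⊓ @Flat ⊓ @QuasiCompact

theorem epi_of_fq {A B : Scheme.{u}} (f : A ⟶ B) (h : FQ f) : Epi f := by
  obtain ⟨⟨_, _⟩, _⟩ := h
  infer_instance

variable {k : Type u} [Field k]

/-- the spectrum of an algebra over `k` -/
noncomputable abbrev specK (A : Type u) [CommRing A] [Algebra k A] : Over (Spec (CommRingCat.of k)) :=
  Over.mk (Spec.map (CommRingCat.ofHom (algebraMap k A)))

/-- the spectrum of an algebra homomorphism -/
noncomputable def specHomK {A B : Type u} [CommRing A] [Algebra k A] [CommRing B] [Algebra k B]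
    (f : A →ₐ[k] B) : specK (k := k) B ⟶ specK (k := k) A :=
  Over.homMk (Spec.map (CommRingCat.ofHom (f : A →+* B))) (by
    show Spec.map _ ≫ Spec.map _ = Spec.map _
    rw [← Spec.map_comp, ← CommRingCat.ofHom_comp, f.comp_algebraMap])

@[simp] theorem specHomK_left {A B : Type u} [CommRing A] [Algebra k A] [CommRing B] [Algebra k B]
    (f : A →ₐ[k] B) : (specHomK f).left = Spec.map (CommRingCat.ofHom (f : A →+* B)) := rfl

theorem specHomK_comp {A B C : Type u} [CommRing A] [Algebra k A] [CommRing B] [Algebra k B] [CommRing C]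
    [Algebra k C] (f : A →ₐ[k] B) (g : B →ₐ[k] C) : specHomK g ≫ specHomK f = specHomK (g.comp f) := by
  refine Over.OverMorphism.ext ?_
  show Spec.map _ ≫ Spec.map _ = Spec.map _
  rw [← Spec.map_comp, ← CommRingCat.ofHom_comp]
  rfl

theorem specHomK_eq_resPt {A B : Type u} [Field A] [Algebra k A] [Field B] [Algebra k B] (f : A →ₐ[k] B) :
    EssDim.resPt f = specHomK f := rfl

theorem fq_specHomK {A B : Type u} [Field A] [Algebra k A] [Field B] [Algebra k B] (f : A →ₐ[k] B) :
    FQ (specHomK f).left := by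
  have h1 : Flat (Spec.map (CommRingCat.ofHom (f : A →+* B))) := by
    rw [HasRingHomProperty.Spec_iff (P := @Flat)]
    algebraize [(f : A →+* B)]
    exact inferInstanceAs (Module.Flat A B)
  exact ⟨⟨⟨fun x => ⟨IsLocalRing.closedPoint B, Subsingleton.elim (α := PrimeSpectrum A) _ _⟩⟩, h1⟩,
    inferInstanceAs (QuasiCompact (Spec.map (CommRingCat.ofHom (f : A →+* B))))⟩

/-- `Spec (E ⊗ L)` is the fibre product -/
theorem isPullback_tensor {M E L : Type u} [CommRing M] [CommRing E] [CommRing L] [Algebra k M] [Algebra k E]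
    [Algebra k L] [Algebra M E] [Algebra M L] [IsScalarTower k M E] [IsScalarTower k M L] :
    IsPullback (specHomK (k := k) (Algebra.TensorProduct.includeLeft : E →ₐ[k] E ⊗[M] L))
      (specHomK (k := k) ((Algebra.TensorProduct.includeRight (R := M) (A := E) (B := L)).restrictScalars k))
      (specHomK (IsScalarTower.toAlgHom k M E)) (specHomK (IsScalarTower.toAlgHom k M L)) := by
  have h : IsPullback (Spec.map (CommRingCat.ofHom (Algebra.TensorProduct.includeLeftRingHom : E →+* E ⊗[M] L)))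
      (Spec.map (CommRingCat.ofHom (Algebra.TensorProduct.includeRight (R := M) (A := E) (B := L)).toRingHom))
      (Spec.map (CommRingCat.ofHom (algebraMap M E))) (Spec.map (CommRingCat.ofHom (algebraMap M L))) :=
    isPullback_SpecMap_of_isPushout _ _ _ _ (CommRingCat.isPushout_tensorProduct M E L)
  exact IsPullback.of_map (Over.forget _) (Over.OverMorphism.ext h.w) h

variable {G X : Over (Spec (CommRingCat.of k))} [GrpObj G] {aX : AlgGrp.Action G X}

/-- forget the map to `X` -/
noncomputable def toBGObj (A : AlgSt.QuotObj Scheme.fppfPrecoverage G aX) :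
    AlgSt.QuotObj Scheme.fppfPrecoverage G (AlgSt.trivAction G) where
  base := A.base
  P := A.P
  act := A.act
  π := A.π
  cart := A.cart
  loc := A.loc
  φ := toUnit _
  eqv := toUnit_unique _ _

/-- the equivariant map at two points compared in a torsor defined over less -/
theorem smul_φ_of_hom (A : AlgSt.QuotObj Scheme.fppfPrecoverage G aX)
    {B : AlgSt.QuotObj Scheme.fppfPrecoverage G (AlgSt.trivAction G)} (f : toBGObj A ⟶ B)
    {W : Over (Spec (CommRingCat.of k))} (p q : W ⟶ A.P) (g : W ⟶ G) (hπ : p ≫ A.π = q ≫ A.π)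
    (hg : smulPt B.act g (q ≫ f.top) = p ≫ f.top) :
    p ≫ A.φ = smulPt aX g (q ≫ A.φ) := by
  have e : p = smulPt A.act g q := f.cart.hom_ext
    (hg.symm.trans (hom_top_smul f g q).symm) (hπ.trans (smulPt_π A g q).symm)
  rw [e, comp_φ]

/-- a torsor over a field has a point over a finite extension -/
theorem exists_point {P : Over (Spec (CommRingCat.of k))} {K : Type u} [Field K] [Algebra k K]
    (π : P ⟶ SGA7.pt (K := k) K)
    (loc : NonAbH1.IsLocallyTrivialFor Scheme.fppfPrecoverage (Over.mk π.left)) :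
    ∃ (E : Type u) (_ : Field E) (_ : Algebra k E) (_ : Algebra K E) (_ : IsScalarTower k K E)
      (_ : FiniteDimensional K E) (e : specK (k := k) E ⟶ P), e ≫ π = specHomK (IsScalarTower.toAlgHom k K E) := by
  obtain ⟨R, hR, hsec⟩ := loc
  obtain ⟨I, Y, g, rfl⟩ := R.exists_eq_ofArrows
  let 𝒰 : Scheme.Cover (Scheme.precoverage (@Flat ⊓ @LocallyOfFinitePresentation)) (Spec (CommRingCat.of K)) :=
    { toPreZeroHypercover := PreZeroHypercover.mk I Y g
      mem₀ := hR }
  obtain ⟨i, y, -⟩ := 𝒰.exists_eq (IsLocalRing.closedPoint K)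
  change ↥(Y i) at y
  obtain ⟨v, hv⟩ := hsec (g i) ⟨i⟩
  have hgi : (@Flat ⊓ @LocallyOfFinitePresentation) (g i) := 𝒰.map_prop i
  have := hgi.2
  obtain ⟨O, hO, hy, -⟩ := exists_isAffineOpen_mem_and_subset (x := y) (U := ⊤) trivial
  let ψ : CommRingCat.of K ⟶ Γ(Y i, O) := Spec.preimage (hO.fromSpec ≫ g i)
  have hψ : RingHom.FiniteType ψ.hom := by
    have : LocallyOfFiniteType (Spec.map ψ) := by
      rw [Spec.map_preimage]
      infer_instance
    exact (HasRingHomProperty.Spec_iff (P := @LocallyOfFiniteType)).1 this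
  have : Nontrivial Γ(Y i, O) := @Scheme.component_nontrivial (Y i) O ⟨⟨y, hy⟩⟩
  obtain ⟨m, hm⟩ := Ideal.exists_maximal Γ(Y i, O)
  letI : Field (Γ(Y i, O) ⧸ m) := Ideal.Quotient.field m
  let ε : K →+* Γ(Y i, O) ⧸ m := (Ideal.Quotient.mk m).comp ψ.hom
  letI aK : Algebra K (Γ(Y i, O) ⧸ m) := ε.toAlgebra
  letI ak : Algebra k (Γ(Y i, O) ⧸ m) := (ε.comp (algebraMap k K)).toAlgebra
  have htow : IsScalarTower k K (Γ(Y i, O) ⧸ m) := IsScalarTower.of_algebraMap_eq fun x => rfl
  have : Algebra.FiniteType K (Γ(Y i, O) ⧸ m) :=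
    RingHom.FiniteType.comp (RingHom.FiniteType.of_surjective _ Ideal.Quotient.mk_surjective) hψ
  have hfin : FiniteDimensional K (Γ(Y i, O) ⧸ m) := finite_of_finite_type_of_isJacobsonRing K _
  have hv' : v ≫ π.left = g i := hv
  have he : (Spec.map (CommRingCat.ofHom (Ideal.Quotient.mk m)) ≫ hO.fromSpec ≫ v) ≫ π.left =
      Spec.map (CommRingCat.ofHom ε) := by
    rw [Category.assoc, Category.assoc, hv', ← Spec.map_preimage (hO.fromSpec ≫ g i), ← Spec.map_comp]
    rfl
  refine ⟨_, inferInstance, ak, aK, htow, hfin,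
    Over.homMk (Spec.map (CommRingCat.ofHom (Ideal.Quotient.mk m)) ≫ hO.fromSpec ≫ v) ?_, Over.OverMorphism.ext he⟩
  show _ ≫ P.hom = Spec.map _
  rw [← Over.w π, ← Category.assoc, he]
  show Spec.map _ ≫ Spec.map _ = _
  rw [← Spec.map_comp]
  rfl

/-- the transcendence degree of a residue field is at most the dimension -/
theorem trdeg_residue_le_dim [LocallyOfFiniteType X.hom] (x : X.left) [Algebra k (X.left.residueField x)]
    (h : Spec.map (CommRingCat.ofHom (algebraMap k (X.left.residueField x))) =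
      X.left.fromSpecResidueField x ≫ X.hom) :
    ((Cardinal.toENat (Algebra.trdeg k (X.left.residueField x)) : ℕ∞) : WithBot ℕ∞) ≤
      topologicalKrullDim (X.left : Type u) := by
  obtain ⟨e, he⟩ := exists_residue_equiv (X.hom x)
  let φ : (Spec (CommRingCat.of k)).residueField (X.hom x) →+* X.left.residueField x :=
    (X.hom.residueFieldMap x).hom
  have hf : algebraMap k (X.left.residueField x) = φ.comp (e : k →+* _) := by
    rw [← X.hom.SpecMap_residueFieldMap_fromSpecResidueField x, he, ← Spec.map_comp] at h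
    exact congrArg CommRingCat.Hom.hom (Spec.map_injective h)
  letI a1 := φ.toAlgebra
  letI a2 := (e : k →+* (Spec (CommRingCat.of k)).residueField (X.hom x)).toAlgebra
  have : IsScalarTower k ((Spec (CommRingCat.of k)).residueField (X.hom x)) (X.left.residueField x) :=
    IsScalarTower.of_algebraMap_eq fun y => RingHom.congr_fun hf y
  have halg : Algebra.IsAlgebraic k ((Spec (CommRingCat.of k)).residueField (X.hom x)) :=
    ⟨fun s => by
      obtain ⟨r, rfl⟩ := e.surjective s
      exact isAlgebraic_algebraMap r⟩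
  have h0 : Algebra.trdeg k (X.left.residueField x) = Dual3.resTrdeg X.hom x := by
    rw [← trdeg_add_eq k ((Spec (CommRingCat.of k)).residueField (X.hom x)) (A := X.left.residueField x),
      trdeg_eq_zero, zero_add]
    rfl
  rw [h0]
  calc ((Cardinal.toENat (Dual3.resTrdeg X.hom x) : ℕ∞) : WithBot ℕ∞)
      ≤ FlatMor.fibreDimAt X.hom x := by
        rw [AlgSpLib.fibreDimAt_eq_stalk_add_trdeg X.hom x]
        exact le_add_of_nonneg_left ringKrullDim_nonneg_of_nontrivial
    _ = FlatMor.localDim X.left x :=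
        have : Subsingleton ↥(Spec (CommRingCat.of k)) := inferInstanceAs (Subsingleton (PrimeSpectrum k))
        Stk19b.FieldDim.fibreDimAt_of_subsingleton X.hom x
    _ ≤ topologicalKrullDim (X.left : Type u) := by
        rw [Stk19b.FieldDim.topologicalKrullDim_eq_iSup_localDim]
        exact le_iSup (fun y => FlatMor.localDim X.left y) x

/-- an object of `[X/G]` whose torsor descends to `K` descends with transcendence degree raised by at most `dim X` -/
theorem exists_small_field [IsAffineHom G.hom] [LocallyOfFiniteType X.hom] {L : Type u} [Field L] [Algebra k L]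
    (A : StkCnt.pts (AlgSt.QuotSt Scheme.fppfPrecoverage G aX) L) {K : IntermediateField k L}
    (B₀ : StkCnt.pts (AlgSt.BG Scheme.fppfPrecoverage G) K) (f : toBGObj A.1 ⟶ B₀.1)
    (hf : (AlgSt.BG Scheme.fppfPrecoverage G).p.IsHomLift (EssDim.resPt K.val) f) :
    ∃ (M : IntermediateField k L) (x₀ : StkCnt.pts (AlgSt.QuotSt Scheme.fppfPrecoverage G aX) M)
      (ξ : A.1 ⟶ x₀.1), (AlgSt.QuotSt Scheme.fppfPrecoverage G aX).p.IsHomLift (EssDim.resPt M.val) ξ ∧
      ((Cardinal.toENat (Algebra.trdeg k M) : ℕ∞) : WithBot ℕ∞) ≤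
        ((Cardinal.toENat (Algebra.trdeg k K) : ℕ∞) : WithBot ℕ∞) + topologicalKrullDim (X.left : Type u) := by
  obtain ⟨⟨β, P, act, π, cart, loc, φA, eqv⟩, hA⟩ := A
  obtain rfl : β = SGA7.pt (K := k) L := hA
  obtain ⟨⟨β₀, P₀, act₀, π₀, cart₀, loc₀, φ₀, eqv₀⟩, hB⟩ := B₀
  obtain rfl : β₀ = SGA7.pt (K := k) K := hB
  let A : AlgSt.QuotObj Scheme.fppfPrecoverage G aX := ⟨_, P, act, π, cart, loc, φA, eqv⟩
  let B₀ : AlgSt.QuotObj Scheme.fppfPrecoverage G (AlgSt.trivAction G) :=
    ⟨_, P₀, act₀, π₀, cart₀, loc₀, φ₀, eqv₀⟩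
  change toBGObj A ⟶ B₀ at f
  have hfb : f.base = EssDim.resPt K.val := by
    haveI := hf
    exact (@IsHomLift.eq_of_isHomLift _ _ _ _ (AlgSt.BG Scheme.fppfPrecoverage G).p (toBGObj A) B₀ (EssDim.resPt K.val) f hf).symm
  -- a geometric point above a closed point of the small torsor
  obtain ⟨E₀, _, _, _, _, _, e₀, he₀⟩ := exists_point π₀ loc₀
  let Ω : Type u := AlgebraicClosure L
  let σ : E₀ →ₐ[K] Ω := IsAlgClosed.lift
  let iΩ : L →ₐ[k] Ω := IsScalarTower.toAlgHom k L Ω
  have hσ : (σ.restrictScalars k).comp (IsScalarTower.toAlgHom k K E₀) = iΩ.comp K.val :=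
    AlgHom.ext fun a => σ.commutes a
  let p₀ : specK (k := k) Ω ⟶ P := f.cart.lift (specHomK (σ.restrictScalars k) ≫ e₀) (specHomK iΩ) (by
    rw [Category.assoc]
    refine (congrArg (specHomK (σ.restrictScalars k) ≫ ·) he₀).trans ?_
    rw [specHomK_comp, hσ, hfb, specHomK_eq_resPt]
    exact (specHomK_comp _ _).symm)
  have hp₀t : p₀ ≫ f.top = specHomK (σ.restrictScalars k) ≫ e₀ := f.cart.lift_fst _ _ _
  have hp₀π : p₀ ≫ π = specHomK iΩ := f.cart.lift_snd _ _ _
  let xl : Spec (CommRingCat.of Ω) ⟶ X.left := (p₀ ≫ φA).left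
  let x : X.left := xl (IsLocalRing.closedPoint Ω)
  let rK : X.left.residueField x →+* Ω :=
    (Scheme.descResidueField (Scheme.stalkClosedPointTo xl)).hom
  have hrK : Spec.map (CommRingCat.ofHom rK) ≫ X.left.fromSpecResidueField x = xl :=
    Scheme.descResidueField_stalkClosedPointTo_fromSpecResidueField _ _ xl
  let str : Spec (X.left.residueField x) ⟶ Spec (CommRingCat.of k) := X.left.fromSpecResidueField x ≫ X.hom
  letI aκ : Algebra k (X.left.residueField x) := (Spec.preimage str).hom.toAlgebra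
  have hstr : Spec.map (CommRingCat.ofHom (algebraMap k (X.left.residueField x))) = str := Spec.map_preimage str
  let fκ : X.left.residueField x →ₐ[k] Ω := ⟨rK, fun a => by
    have e := Over.w (p₀ ≫ φA)
    change xl ≫ X.hom = Spec.map (CommRingCat.ofHom (algebraMap k Ω)) at e
    rw [← hrK, Category.assoc] at e
    change Spec.map _ ≫ str = _ at e
    rw [← hstr, ← Spec.map_comp] at e
    exact ConcreteCategory.congr_hom (Spec.map_injective e) a⟩
  let ptx : specK (k := k) (X.left.residueField x) ⟶ X := Over.homMk (X.left.fromSpecResidueField x) hstr.symm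
  have hx0 : p₀ ≫ φA = specHomK fκ ≫ ptx := Over.OverMorphism.ext hrK.symm
  obtain ⟨F, hFκ, hFcl, hFtr⟩ := exists_bounded_closure (K := K) fκ
  let FΩ : F →ₐ[k] Ω := F.val.restrictScalars k
  let κF : X.left.residueField x →ₐ[k] F := fκ.codRestrict (F.restrictScalars k).toSubalgebra hFκ
  have hσF : ∀ a, σ a ∈ F := fun a => hFcl _
    (((Algebra.IsAlgebraic.isAlgebraic (R := K) a).algHom σ).extendScalars (algebraMap K F).injective)
  let σF : E₀ →ₐ[k] F := (σ.restrictScalars k).codRestrict (F.restrictScalars k).toSubalgebra hσF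
  let xF : specK (k := k) F ⟶ X := specHomK κF ≫ ptx
  -- the field of definition
  let M : IntermediateField k L := (F.restrictScalars k).comap iΩ
  have hKM : K ≤ M := fun a ha => F.algebraMap_mem ⟨a, ha⟩
  let mF : M →ₐ[k] F := (iΩ.comp M.val).codRestrict (F.restrictScalars k).toSubalgebra fun a => a.2
  have htr : ((Cardinal.toENat (Algebra.trdeg k M) : ℕ∞) : WithBot ℕ∞) ≤
      ((Cardinal.toENat (Algebra.trdeg k K) : ℕ∞) : WithBot ℕ∞) + topologicalKrullDim (X.left : Type u) := by
    have h1 : Algebra.trdeg k M ≤ Algebra.trdeg k K + Algebra.trdeg k (X.left.residueField x) :=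
      (trdeg_le_of_injective mF mF.injective).trans hFtr
    have h2 : Cardinal.toENat (Algebra.trdeg k M) ≤ Cardinal.toENat (Algebra.trdeg k K) +
        Cardinal.toENat (Algebra.trdeg k (X.left.residueField x)) :=
      (Cardinal.toENat.monotone' h1).trans (le_of_eq (map_add Cardinal.toENat _ _))
    refine (WithBot.coe_le_coe.2 h2).trans ?_
    rw [WithBot.coe_add]
    exact add_le_add le_rfl (trdeg_residue_le_dim x hstr)
  letI aMF : Algebra M F := (mF : M →+* F).toAlgebra
  have : IsScalarTower k M F := IsScalarTower.of_algebraMap_eq fun a => (mF.commutes a).symm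
  let gL : L →ₐ[M] Ω := IsScalarTower.toAlgHom M L Ω
  let gF : F →ₐ[M] Ω := ⟨(F.val : F →+* Ω), fun a => rfl⟩
  have hMalg : ∀ l : L, IsAlgebraic M l → ∃ m : M, algebraMap M L m = l := fun l hl => by
    have h1 : IsAlgebraic M (algebraMap L Ω l) := hl.algHom gL
    have h2 : IsAlgebraic F (algebraMap L Ω l) :=
      h1.ringHom_of_comp_eq (mF : M →+* F) (RingHom.id Ω) mF.injective (RingHom.ext fun a => rfl)
    exact ⟨⟨l, hFcl _ h2⟩, rfl⟩
  have hMF : ∀ (l : L) (a : F), gL l = gF a → ∃ m : M, algebraMap M L m = l := fun l a e =>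
    ⟨⟨l, show iΩ l ∈ F by rw [show iΩ l = (a : Ω) from e]; exact a.2⟩, rfl⟩
  let c : SGA7.pt (K := k) M ⟶ SGA7.pt (K := k) K := EssDim.resPt (IntermediateField.inclusion hKM)
  let Bm := pb B₀ c
  obtain ⟨hm, ⟨hmb, hmf⟩, -⟩ := existsUnique_fac (pbHom B₀ c) f (EssDim.resPt M.val) (by
    show EssDim.resPt M.val ≫ c = f.base
    rw [hfb, ← EssDim.resPt_comp]
    rfl)
  have hmt : hm.top ≫ (pbHom B₀ c).top = f.top := congrArg AlgSt.QuotObj.Hom.top hmf
  -- a point of the torsor over a finite extension of `M`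
  obtain ⟨E, _, _, _, _, _, e, he⟩ := exists_point (K := M) Bm.π Bm.loc
  let tE : specK (k := k) E ⟶ SGA7.pt (K := k) M := specHomK (IsScalarTower.toAlgHom k M E)
  let iE : specK (k := k) (E ⊗[M] L) ⟶ specK (k := k) E := specHomK Algebra.TensorProduct.includeLeft
  let iL : specK (k := k) (E ⊗[M] L) ⟶ SGA7.pt (K := k) L :=
    specHomK ((Algebra.TensorProduct.includeRight (R := M) (A := E) (B := L)).restrictScalars k)
  have sqL : IsPullback iE iL tE (EssDim.resPt M.val) := isPullback_tensor (M := M) (E := E) (L := L)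
  let eL : specK (k := k) (E ⊗[M] L) ⟶ P := hm.cart.lift (iE ≫ e) iL (by
    rw [Category.assoc, he, hmb]
    exact sqL.w)
  have heLt : eL ≫ hm.top = iE ≫ e := hm.cart.lift_fst _ _ _
  have heLπ : eL ≫ π = iL := hm.cart.lift_snd _ _ _
  -- the same point over `F`
  let jE : specK (k := k) (E ⊗[M] F) ⟶ specK (k := k) E := specHomK Algebra.TensorProduct.includeLeft
  let jF : specK (k := k) (E ⊗[M] F) ⟶ SGA7.pt (K := k) F :=
    specHomK ((Algebra.TensorProduct.includeRight (R := M) (A := E) (B := F)).restrictScalars k)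
  have sqF : IsPullback jE jF tE (specHomK mF) := isPullback_tensor (M := M) (E := E) (L := F)
  have hcF : (mF.comp (IntermediateField.inclusion hKM)) = σF.comp (IsScalarTower.toAlgHom k K E₀) :=
    AlgHom.ext fun a => Subtype.ext (σ.commutes a).symm
  let e₀F : SGA7.pt (K := k) F ⟶ Bm.P := (pbHom B₀ c).cart.lift (specHomK σF ≫ e₀) (specHomK mF) (by
    rw [Category.assoc]
    refine (congrArg (specHomK σF ≫ ·) he₀).trans ?_
    rw [specHomK_comp, ← hcF, ← specHomK_comp]
    rfl)
  have he₀Ft : e₀F ≫ (pbHom B₀ c).top = specHomK σF ≫ e₀ := (pbHom B₀ c).cart.lift_fst _ _ _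
  have he₀Fπ : e₀F ≫ Bm.π = specHomK mF := (pbHom B₀ c).cart.lift_snd _ _ _
  obtain ⟨gd, hgd, -⟩ := existsUnique_smul Bm (jF ≫ e₀F) (jE ≫ e) (by
    rw [Category.assoc, Category.assoc, he₀Fπ, he]
    exact sqF.w)
  let zL := eL ≫ φA
  let zF : specK (k := k) (E ⊗[M] F) ⟶ X := smulPt aX gd (jF ≫ xF)
  -- comparison over `Ω`
  let mapL := (Algebra.TensorProduct.map (AlgHom.id M E) gL).restrictScalars k
  let mapF := (Algebra.TensorProduct.map (AlgHom.id M E) gF).restrictScalars k
  let wL : specK (k := k) (E ⊗[M] Ω) ⟶ specK (k := k) (E ⊗[M] L) := specHomK mapL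
  let wF : specK (k := k) (E ⊗[M] Ω) ⟶ specK (k := k) (E ⊗[M] F) := specHomK mapF
  let wΩ : specK (k := k) (E ⊗[M] Ω) ⟶ SGA7.pt (K := k) Ω :=
    specHomK ((Algebra.TensorProduct.includeRight (R := M) (A := E) (B := Ω)).restrictScalars k)
  have hwE : wL ≫ iE = wF ≫ jE := by
    simp only [wL, wF, iE, jE, specHomK_comp]
    congr 1
  have hwL : wL ≫ iL = wΩ ≫ specHomK iΩ := by
    simp only [wL, wΩ, iL, specHomK_comp]
    congr 1
  have hwF : wF ≫ jF = wΩ ≫ specHomK FΩ := by
    simp only [wF, wΩ, jF, specHomK_comp]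
    congr 1
  have hagree : wL ≫ zL = wF ≫ zF := by
    have hq : (wΩ ≫ p₀) ≫ hm.top = wF ≫ jF ≫ e₀F := by
      refine (pbHom B₀ c).cart.hom_ext ?_ ?_
      · rw [Category.assoc, Category.assoc, Category.assoc, Category.assoc, hmt, hp₀t, he₀Ft,
          reassoc_of% hwF, ← Category.assoc (specHomK FΩ), specHomK_comp]
        rfl
      · refine (Category.assoc _ _ _).trans ((congrArg ((wΩ ≫ p₀) ≫ ·) hm.cart.w).trans ?_)
        rw [Category.assoc, Category.assoc, Category.assoc, hmb]
        refine Eq.trans ?_ (congrArg (fun t => wF ≫ jF ≫ t) he₀Fπ.symm)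
        rw [reassoc_of% hwF]
        refine congrArg (wΩ ≫ ·) ((Category.assoc _ _ _).symm.trans ((congrArg (· ≫ _) hp₀π).trans ?_))
        rw [specHomK_eq_resPt, specHomK_comp, specHomK_comp]
        rfl
    have h2 := smul_φ_of_hom A hm (wL ≫ eL) (wΩ ≫ p₀) (wF ≫ gd)
      (by rw [Category.assoc, Category.assoc]; exact (congrArg (wL ≫ ·) heLπ).trans (hwL.trans (congrArg (wΩ ≫ ·) hp₀π.symm)))
      (by rw [hq, ← comp_smulPt, hgd, Category.assoc, heLt, reassoc_of% hwE])
    refine (Category.assoc _ _ _).symm.trans (h2.trans ?_)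
    rw [comp_smulPt]
    refine congrArg (smulPt aX (wF ≫ gd)) ?_
    show (wΩ ≫ p₀) ≫ φA = wF ≫ jF ≫ xF
    rw [Category.assoc, hx0, reassoc_of% hwF, ← Category.assoc (specHomK FΩ), specHomK_comp]
    rfl
  -- one affine open contains the whole image
  haveI : Subsingleton (PrimeSpectrum (E ⊗[M] L)) := subsingleton_spec_tensor hMalg
  have hinj : Function.Injective (Algebra.TensorProduct.includeLeft : E →ₐ[M] E ⊗[M] L) :=
    Algebra.TensorProduct.includeLeft_injective (algebraMap M L).injective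
  haveI : Nontrivial (E ⊗[M] L) := hinj.nontrivial
  obtain ⟨w₀⟩ : Nonempty (PrimeSpectrum (E ⊗[M] L)) := inferInstance
  obtain ⟨O, hO, hw₀, -⟩ := exists_isAffineOpen_mem_and_subset (x := zL.left w₀) (U := ⊤) trivial
  have hsqΩ : IsPullback wF wΩ jF (specHomK FΩ) := by
    refine IsPullback.of_right ?_ hwF sqF
    have h := isPullback_tensor (k := k) (M := M) (E := E) (L := Ω)
    have e1 : wF ≫ jE = specHomK Algebra.TensorProduct.includeLeft := by
      simp only [wF, jE, specHomK_comp]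
      congr 1
    have e2 : specHomK FΩ ≫ specHomK mF = specHomK (IsScalarTower.toAlgHom k M Ω) := by
      rw [specHomK_comp]
      rfl
    rw [e1, e2]
    exact h
  have hwFs : Function.Surjective wF.left := by
    have h := (MorphismProperty.of_isPullback (P := FQ) (hsqΩ.flip.map (Over.forget _)) (fq_specHomK FΩ)).1.1
    exact h.surj
  have hrL : Set.range zL.left ⊆ Set.range O.ι := by
    rw [Scheme.Opens.range_ι]
    rintro _ ⟨w, rfl⟩
    rw [Subsingleton.elim (α := PrimeSpectrum (E ⊗[M] L)) w w₀]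
    exact hw₀
  have hrF : Set.range zF.left ⊆ Set.range O.ι := by
    rintro _ ⟨w, rfl⟩
    obtain ⟨v, rfl⟩ := hwFs w
    refine hrL ⟨wL.left v, ?_⟩
    exact congrArg (fun t : specK (k := k) (E ⊗[M] Ω) ⟶ X => t.left v) hagree
  let ρL : Γ(X.left, O) ⟶ CommRingCat.of (E ⊗[M] L) :=
    Spec.preimage (IsOpenImmersion.lift O.ι zL.left hrL ≫ hO.isoSpec.hom)
  let ρF : Γ(X.left, O) ⟶ CommRingCat.of (E ⊗[M] F) :=
    Spec.preimage (IsOpenImmersion.lift O.ι zF.left hrF ≫ hO.isoSpec.hom)
  have hρ : ρL ≫ CommRingCat.ofHom (mapL : E ⊗[M] L →+* E ⊗[M] Ω) =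
      ρF ≫ CommRingCat.ofHom (mapF : E ⊗[M] F →+* E ⊗[M] Ω) := by
    refine Spec.map_injective ?_
    rw [Spec.map_comp, Spec.map_comp, Spec.map_preimage, Spec.map_preimage, ← Category.assoc, ← Category.assoc]
    refine congrArg (· ≫ hO.isoSpec.hom) ((cancel_mono O.ι).1 ?_)
    rw [Category.assoc, Category.assoc, IsOpenImmersion.lift_fac, IsOpenImmersion.lift_fac]
    exact congrArg CommaMorphism.left hagree
  choose ρ₀ hρ₀ using fun r => exists_mem_of_tensor_eq gL gF hMF (ρL r) (ρF r) (ConcreteCategory.congr_hom hρ r)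
  let ρ : Γ(X.left, O) →+* E :=
    { toFun := ρ₀
      map_one' := hinj ((hρ₀ 1).symm.trans ((map_one ρL.hom).trans (map_one _).symm))
      map_zero' := hinj ((hρ₀ 0).symm.trans ((map_zero ρL.hom).trans (map_zero _).symm))
      map_add' := fun a b => hinj (((hρ₀ (a + b)).symm.trans (map_add ρL.hom a b)).trans
        ((congrArg₂ (· + ·) (hρ₀ a) (hρ₀ b)).trans (TensorProduct.add_tmul _ _ _).symm))
      map_mul' := fun a b => hinj (((hρ₀ (a * b)).symm.trans (map_mul ρL.hom a b)).trans
        ((congrArg₂ (· * ·) (hρ₀ a) (hρ₀ b)).trans ((Algebra.TensorProduct.tmul_mul_tmul _ _ _ _).trans (congrArg (_ ⊗ₜ[M] ·) (_root_.mul_one _))))) }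
  let zl : Spec (CommRingCat.of E) ⟶ X.left := Spec.map (CommRingCat.ofHom ρ) ≫ hO.isoSpec.inv ≫ O.ι
  have hzl : iE.left ≫ zl = zL.left := by
    have e1 : CommRingCat.ofHom ρ ≫ CommRingCat.ofHom
        ((Algebra.TensorProduct.includeLeft : E →ₐ[k] E ⊗[M] L) : E →+* E ⊗[M] L) = ρL :=
      CommRingCat.hom_ext (RingHom.ext fun r => (hρ₀ r).symm)
    show Spec.map _ ≫ Spec.map _ ≫ _ = _
    rw [← Category.assoc, ← Spec.map_comp, e1, Spec.map_preimage, Category.assoc, Iso.hom_inv_id_assoc,
      IsOpenImmersion.lift_fac]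
  have hiE : FQ iE.left :=
    MorphismProperty.of_isPullback (P := FQ) (sqL.flip.map (Over.forget _)) (fq_specHomK M.val)
  haveI := epi_of_fq _ hiE
  let z : specK (k := k) E ⟶ X := Over.homMk zl ((cancel_epi iE.left).1 (by
    rw [← Category.assoc, hzl]
    exact (Over.w zL).trans (Over.w iE).symm))
  have hz : iE ≫ z = zL := Over.OverMorphism.ext hzl
  -- descend the equivariant map along `Q ⟶ Bm.P`
  let Q := pullback Bm.π tE
  let q1 : Q ⟶ Bm.P := pullback.fst Bm.π tE
  let q2 : Q ⟶ specK (k := k) E := pullback.snd Bm.π tE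
  obtain ⟨gQ, hgQ, -⟩ := existsUnique_smul Bm (q2 ≫ e) q1 (by
    rw [Category.assoc, he]
    exact pullback.condition)
  let φQ : Q ⟶ X := smulPt aX gQ (q2 ≫ z)
  have key : ∀ {W : Over (Spec (CommRingCat.of k))} (q : W ⟶ Q) (p : W ⟶ P),
      p ≫ hm.top = q ≫ q1 → q ≫ φQ = p ≫ φA := by
    intro W q p hqp
    let v : W ⟶ specK (k := k) (E ⊗[M] L) := sqL.lift (q ≫ q2) (p ≫ π) (by
      have hp := hm.cart.w
      rw [hmb] at hp
      refine (Category.assoc _ _ _).trans ((congrArg (q ≫ ·) pullback.condition.symm).trans ?_)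
      refine (Category.assoc _ _ _).symm.trans ((congrArg (· ≫ Bm.π) hqp.symm).trans ?_)
      exact (Category.assoc _ _ _).trans ((congrArg (p ≫ ·) hp).trans (Category.assoc _ _ _).symm))
    have hv1 : v ≫ iE = q ≫ q2 := sqL.lift_fst _ _ _
    have hv2 : v ≫ iL = p ≫ π := sqL.lift_snd _ _ _
    have h2 := smul_φ_of_hom A hm p (v ≫ eL) (q ≫ gQ)
      (((Category.assoc _ _ _).trans ((congrArg (v ≫ ·) heLπ).trans hv2)).symm)
      (by rw [Category.assoc, heLt, reassoc_of% hv1, ← comp_smulPt, hgQ, hqp])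
    refine Eq.trans ?_ h2.symm
    rw [comp_smulPt]
    refine congrArg (smulPt aX (q ≫ gQ)) ?_
    show q ≫ q2 ≫ z = (v ≫ eL) ≫ φA
    rw [Category.assoc, ← reassoc_of% hv1, hz]
  have htE : FQ tE.left := fq_specHomK _
  have hq1 : FQ q1.left :=
    MorphismProperty.of_isPullback (P := FQ) ((IsPullback.of_hasPullback Bm.π tE).map (Over.forget _)).flip htE
  have hres : FQ hm.base.left := by rw [hmb]; exact fq_specHomK M.val
  have htop : FQ hm.top.left :=
    MorphismProperty.of_isPullback (P := FQ) (hm.cart.map (Over.forget _)).flip hres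
  obtain ⟨⟨_, _⟩, _⟩ := hq1
  have hcond : ∀ {Z : Scheme.{u}} (g₁ g₂ : Z ⟶ Q.left), g₁ ≫ q1.left = g₂ ≫ q1.left →
      g₁ ≫ φQ.left = g₂ ≫ φQ.left := by
    intro Z g₁ g₂ hg
    let Z' := pullback (g₁ ≫ q1.left) hm.top.left
    have hfst : FQ (pullback.fst (g₁ ≫ q1.left) hm.top.left) := MorphismProperty.pullback_fst _ _ htop
    haveI := epi_of_fq _ hfst
    let W : Over (Spec (CommRingCat.of k)) := Over.mk (pullback.snd (g₁ ≫ q1.left) hm.top.left ≫ P.hom)
    let p : W ⟶ P := Over.homMk (pullback.snd _ _) rfl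
    have hc := pullback.condition (f := g₁ ≫ q1.left) (g := hm.top.left)
    have hw : ∀ g' : Z ⟶ Q.left, g' ≫ q1.left = g₁ ≫ q1.left →
        (pullback.fst (g₁ ≫ q1.left) hm.top.left ≫ g') ≫ Q.hom = W.hom := fun g' hg' => by
      rw [← Over.w q1, ← Category.assoc, Category.assoc _ g' q1.left, hg', hc]
      exact (Category.assoc _ _ _).trans (congrArg (pullback.snd _ _ ≫ ·) (Over.w hm.top))
    refine (cancel_epi (pullback.fst (g₁ ≫ q1.left) hm.top.left)).1 ?_
    have k1 := key (Over.homMk (pullback.fst _ _ ≫ g₁) (hw g₁ rfl)) p (Over.OverMorphism.ext (by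
      show pullback.snd _ _ ≫ hm.top.left = (pullback.fst _ _ ≫ g₁) ≫ q1.left
      rw [Category.assoc, hc]))
    have k2 := key (Over.homMk (pullback.fst _ _ ≫ g₂) (hw g₂ hg.symm)) p (Over.OverMorphism.ext (by
      show pullback.snd _ _ ≫ hm.top.left = (pullback.fst _ _ ≫ g₂) ≫ q1.left
      rw [Category.assoc, ← hg, hc]))
    exact (Category.assoc _ _ _).symm.trans ((congrArg CommaMorphism.left (k1.trans k2.symm)).trans
      (Category.assoc _ _ _))
  haveI : Epi q1.left := inferInstance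
  let φl : Bm.P.left ⟶ X.left := EffectiveEpi.desc q1.left φQ.left fun g₁ g₂ h => hcond g₁ g₂ h
  have hφl : q1.left ≫ φl = φQ.left := EffectiveEpi.fac _ _ _
  let φM : Bm.P ⟶ X := Over.homMk φl ((cancel_epi q1.left).1 (by
    rw [← Category.assoc, hφl]
    exact (Over.w φQ).trans (Over.w q1).symm))
  have hq1φ : q1 ≫ φM = φQ := Over.OverMorphism.ext hφl
  have htopφ : hm.top ≫ φM = φA := by
    let Z := pullback hm.top q1
    have hsq := (IsPullback.of_hasPullback hm.top q1).map (Over.forget _)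
    have hfst : FQ (pullback.fst hm.top q1).left :=
      MorphismProperty.of_isPullback (P := FQ) hsq.flip ⟨⟨‹_›, ‹_›⟩, ‹_›⟩
    haveI := epi_of_fq _ hfst
    have h := key (pullback.snd hm.top q1) (pullback.fst hm.top q1) pullback.condition
    refine Over.OverMorphism.ext ((cancel_epi (pullback.fst hm.top q1).left).1 ?_)
    refine congrArg CommaMorphism.left (show pullback.fst hm.top q1 ≫ hm.top ≫ φM = _ ≫ φA from ?_)
    rw [pullback.condition_assoc, hq1φ]
    exact h
  have heqv : Bm.act.act ≫ φM = (G ◁ φM) ≫ aX.act := by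
    have hfq : FQ (G ◁ hm.top).left :=
      MorphismProperty.of_isPullback (P := FQ) ((AlgSt.isPullback_whiskerLeft hm.top).map (Over.forget _)).flip htop
    haveI := epi_of_fq _ hfq
    refine Over.OverMorphism.ext ((cancel_epi (G ◁ hm.top).left).1 ?_)
    refine congrArg CommaMorphism.left (show (G ◁ hm.top) ≫ Bm.act.act ≫ φM = (G ◁ hm.top) ≫ (G ◁ φM) ≫ aX.act from ?_)
    rw [← MonoidalCategory.whiskerLeft_comp_assoc, htopφ, ← Category.assoc]
    refine (congrArg (· ≫ φM) hm.eqv.symm).trans ?_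
    rw [Category.assoc, htopφ]
    exact eqv
  let Am : AlgSt.QuotObj Scheme.fppfPrecoverage G aX :=
    ⟨Bm.base, Bm.P, Bm.act, Bm.π, Bm.cart, Bm.loc, φM, heqv⟩
  let ξ : A ⟶ Am := ⟨hm.base, hm.top, hm.eqv, hm.cart, htopφ⟩
  refine ⟨M, ⟨Am, rfl⟩, ξ, ?_, htr⟩
  have := IsHomLift.map (AlgSt.QuotSt Scheme.fppfPrecoverage G aX).p ξ
  change (AlgSt.QuotSt Scheme.fppfPrecoverage G aX).p.IsHomLift hm.base ξ at this
  rwa [hmb] at this

end Groth.Agent.EssDimLib27
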