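import Groth.Prelude.Def_EssDim
import Groth.Prelude.Def_StCurv2
import Groth.Prelude.Def_AlgSt5
import Groth.Agent.AlgSpLib.DecentPoints
import Groth.Agent.AlgSpLib.ElemCofiltered
import Groth.Agent.AlgSpLib.MorSep
import Groth.Agent.Stk19.AlgSt.Sp
import Groth.Agent.Stk19.Yoneda
import Groth.Agent.EssDimLib27.Trdeg

/-!
# Essential dimension along a morphism of bounded relative dimension
-/

set_option autoImplicit false
set_option linter.style.haveILetI false
set_option backward.isDefEq.respectTransparency.types false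

universe u

open CategoryTheory CategoryTheory.Limits AlgebraicGeometry AlgSp Opposite FibCat

namespace Groth.Agent.EssDimLib27

open Groth.Agent.AlgSpLib Groth.Agent.Stk19

variable {S : Scheme.{u}}

/-- a space quasi-separated over an affine scheme over an affine base is quasi-separated -/
theorem isQuasiSeparatedSp_of_mor_affine [IsAffine S] {Z : Sp S} {T : Over S} [IsAffine T.left]
    (q : Z ⟶ (yon S).obj T) (hq : IsQuasiSeparatedMor q) : IsQuasiSeparatedSp Z := by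
  let t : T ⟶ Over.mk (𝟙 S) := Over.homMk T.hom (Category.comp_id _)
  refine (isQuasiSeparatedMor_iff_sp (q ≫ (yon S).map t)).1 (isQuasiSeparatedMor_comp hq ?_)
  refine (isQuasiSeparatedMor_yon_map_iff t).2 ?_
  show QuasiSeparated T.hom
  infer_instance

variable {k : Type u} [Field k]

/-- the point of `Z` over a field, its field of definition and the transcendence bound -/
theorem exists_small_point {Z : Sp (Spec (CommRingCat.of k))} (hZ : IsAlgSpace Z)
    {K : Type u} [Field K] [Algebra k K] (q : Z ⟶ (yon _).obj (SGA7.pt (K := k) K))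
    (hl : LocP @LocallyOfFiniteType q) (hqs : IsQuasiSeparatedMor q) (d : ℕ) (hd : CurvSt.RelDimLE d q)
    {L : Type u} [Field L] [Algebra k L] (g : SGA7.pt (K := k) L ⟶ SGA7.pt (K := k) K)
    (p₀ : (yon _).obj (SGA7.pt (K := k) L) ⟶ Z) (hp₀ : p₀ ≫ q = (yon _).map g) :
    ∃ (M : IntermediateField k L) (p : (yon _).obj (SGA7.pt (K := k) M) ⟶ Z),
      p₀ = (yon _).map (EssDim.resPt M.val) ≫ p ∧
      Cardinal.toENat (Algebra.trdeg k M) ≤ Cardinal.toENat (Algebra.trdeg k K) + (d : ℕ∞) := by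
  have : IsAffine (SGA7.pt (K := k) K).left := inferInstanceAs (IsAffine (Spec (CommRingCat.of K)))
  obtain ⟨P, hP, hm, -⟩ := isDecent_of_qsep hZ (isQuasiSeparatedSp_of_mor_affine q hqs)
    (ptOfHom (str := Spec.map (CommRingCat.ofHom (algebraMap k L))) p₀)
  obtain ⟨κ, _, str, p, hm, hp⟩ : ∃ (κ : Type u) (_ : Field κ) (str : Spec (CommRingCat.of κ) ⟶ _)
      (p : (yon _).obj (Over.mk str) ⟶ Z), Mono p ∧
        ptOfHom p = ptOfHom (str := Spec.map (CommRingCat.ofHom (algebraMap k L))) p₀ :=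
    ⟨P.K, P.field, P.str, P.toHom, hm, (ptOfHom_toHom P).trans hP⟩
  obtain ⟨i, hi⟩ := exists_factor_mono_point hZ p _ hp.symm
  obtain ⟨c, hc⟩ := (yon _).map_surjective (p ≫ q)
  have hic : i ≫ c = g := (yon _).map_injective (by
    rw [Functor.map_comp, hc, ← hp₀]
    exact (Category.assoc _ _ _).symm.trans (congrArg (· ≫ q) hi.symm))
  -- the algebra structures
  letI ak : Algebra k κ := (Spec.preimage str).hom.toAlgebra
  letI aK : Algebra K κ := (Spec.preimage c.left).hom.toAlgebra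
  have hstr : Spec.map (CommRingCat.ofHom (algebraMap k κ)) = str := Spec.map_preimage str
  have hcl : Spec.map (CommRingCat.ofHom (algebraMap K κ)) = c.left := Spec.map_preimage c.left
  have : IsScalarTower k K κ := IsScalarTower.of_algebraMap_eq fun x => by
    have e : c.left ≫ Spec.map (CommRingCat.ofHom (algebraMap k K)) = str := Over.w c
    rw [← hcl, ← hstr, ← Spec.map_comp] at e
    exact (ConcreteCategory.congr_hom (Spec.map_injective e) x).symm
  let f : κ →ₐ[k] L := ⟨(Spec.preimage i.left).hom, fun x => by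
    have e : i.left ≫ Spec.map (CommRingCat.ofHom (algebraMap k κ)) = Spec.map (CommRingCat.ofHom (algebraMap k L)) :=
      (congrArg (i.left ≫ ·) hstr).trans (Over.w i)
    rw [← Spec.map_preimage i.left, ← Spec.map_comp] at e
    exact ConcreteCategory.congr_hom (Spec.map_injective e) x⟩
  let M : IntermediateField k L := f.fieldRange
  let eM : κ ≃ₐ[k] M := AlgEquiv.ofInjectiveField f
  let j : SGA7.pt (K := k) M ⟶ Over.mk str := Over.homMk (Spec.map (CommRingCat.ofHom (eM.toAlgHom : κ →+* M)))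
    (by
      show _ ≫ str = Spec.map _
      rw [← hstr, ← Spec.map_comp, ← CommRingCat.ofHom_comp, eM.toAlgHom.comp_algebraMap])
  have hij : EssDim.resPt M.val ≫ j = i := by
    refine Over.OverMorphism.ext ?_
    show Spec.map _ ≫ Spec.map _ = i.left
    rw [← Spec.map_comp, ← Spec.map_preimage i.left]
    rfl
  refine ⟨M, (yon _).map j ≫ p, ?_, ?_⟩
  · exact hi.trans (by rw [← Category.assoc, ← Functor.map_comp, hij])
  · rw [← eM.trdeg_eq, ← trdeg_add_eq k K (A := κ), map_add]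
    refine add_le_add le_rfl ?_
    obtain ⟨U, V, a, b, h, u, ha, hb, w, hu, hdim⟩ := hd (ptOfHom p)
    obtain ⟨bb, rfl⟩ := (yon _).map_surjective b
    have : Etale bb.left := (repWith_yon_map_iff @Etale bb).1 hb
    have : LocallyOfFiniteType h.left := hl a _ h ha hb w
    let qu : Over.mk (U.left.fromSpecResidueField u ≫ U.hom) ⟶ U := Over.homMk (U.left.fromSpecResidueField u) rfl
    obtain ⟨i', hi'⟩ := exists_factor_mono_point hZ (k' := U.left.residueField u) p ((yon _).map qu ≫ a)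
      (by rw [← hu, ofPt_eq_ptOfHom]; rfl)
    have hw : i' ≫ c = qu ≫ h ≫ bb := (yon _).map_injective (by
      rw [Functor.map_comp, hc, ← Category.assoc, ← hi', Category.assoc, w, Functor.map_comp,
        Functor.map_comp])
    refine trdeg_le_fibreDim h.left bb.left u i'.left ?_ d hdim
    rw [hcl]
    exact congrArg CommaMorphism.left hw

/-- `ed x ≤ ed (F x) + d` -/
theorem edStAt_le {𝒳 𝒴 : AlgSt.Cat (Spec (CommRingCat.of k))} [FibCat.IsFibGrpd 𝒳.p] [FibCat.IsFibGrpd 𝒴.p]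
    (F : 𝒳 ⥤ᵇ 𝒴) (d : ℕ)
    (hF : AlgSt.RepByAlgSpWith
      (AlgSp.LocP @LocallyOfFiniteType ⊓ AlgSp.IsQuasiSeparatedMor ⊓ fun _ _ g => CurvSt.RelDimLE d g) F)
    {L : Type u} [Field L] [Algebra k L] (x : StkCnt.pts 𝒳 L) :
    EssDim.edStAt 𝒳 x ≤ EssDim.edStAt 𝒴 ⟨F.obj x.1, (F.w_obj x.1).trans x.2⟩ + d := by
  let y : StkCnt.pts 𝒴 L := ⟨F.obj x.1, (F.w_obj x.1).trans x.2⟩
  haveI : Nonempty {K : IntermediateField k L //
      EssDim.Descends (Gerb.isoClPsh 𝒴) (Quot.mk (Gerb.IsoRel 𝒴 (SGA7.pt (K := k) L)) y) K} :=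
    ⟨⟨⊤, EssDim.descends_top _⟩⟩
  obtain ⟨⟨K, hK⟩, hKe⟩ := ciInf_mem (fun K' : {K : IntermediateField k L //
      EssDim.Descends (Gerb.isoClPsh 𝒴) (Quot.mk (Gerb.IsoRel 𝒴 (SGA7.pt (K := k) L)) y) K} =>
        Cardinal.toENat (Algebra.trdeg k K'.1))
  have he : EssDim.edStAt 𝒴 y = Cardinal.toENat (Algebra.trdeg k K) := hKe.symm
  rw [he]
  obtain ⟨y₀, φ, hφ⟩ := (EssDim.descends_isoCl_iff 𝒴 y K).1 hK
  obtain ⟨Y, iy, hiy⟩ := exists_classifying ‹FibCat.IsFibGrpd 𝒴.p› y₀.1 y₀.2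
  -- the object of the fibre product
  let a : (FibCat.overCat (SGA7.pt (K := k) K)).obj := Over.mk (EssDim.resPt K.val)
  let toI : a ⟶ Over.mk (𝟙 (SGA7.pt (K := k) K)) := Over.homMk (EssDim.resPt K.val)
  haveI : (FibCat.overCat (SGA7.pt (K := k) K)).p.IsHomLift (EssDim.resPt K.val) toI :=
    IsHomLift.map (FibCat.overCat (SGA7.pt (K := k) K)).p toI
  let β : Y.obj a ⟶ y₀.1 := Y.map toI ≫ iy.hom
  haveI : 𝒴.p.IsHomLift (EssDim.resPt K.val) β := inferInstance
  haveI := hφ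
  haveI : 𝒴.p.IsStronglyCartesian (EssDim.resPt K.val) β := sc_of_sc_map _ _ _ (FibCat.IsFibGrpd.isStronglyCartesian _)
  haveI : 𝒴.p.IsStronglyCartesian (EssDim.resPt K.val) φ := sc_of_sc_map _ _ _ (FibCat.IsFibGrpd.isStronglyCartesian _)
  let eI : Y.obj a ≅ F.obj x.1 :=
    Functor.IsCartesian.domainUniqueUpToIso 𝒴.p (EssDim.resPt K.val) φ β
  let w : (FibCat.fp Y F).obj := ⟨⟨a, x.1, eI⟩, show 𝒴.p.IsHomLift (𝟙 (SGA7.pt (K := k) L)) eI.hom from inferInstance⟩
  obtain ⟨Z, e, ⟨G, -, ⟨η⟩⟩, ⟨⟨hl, hqs⟩, hd⟩⟩ := hF (SGA7.pt (K := k) K) Y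
  have hGw : ((AlgSt.ofSp Z.obj).p.obj (G.obj w)) = SGA7.pt (K := k) L := G.w_obj w
  obtain ⟨B, s, hs⟩ : ∃ B s, G.obj w = (⟨B, s⟩ : (AlgSt.ofSp Z.obj).obj) := ⟨_, _, rfl⟩
  rw [hs] at hGw
  obtain rfl : B = SGA7.pt (K := k) L := hGw
  let ηw : e.obj ⟨SGA7.pt (K := k) L, s⟩ ≅ w :=
    eqToIso (congrArg e.obj hs.symm) ≪≫ ((BasedNatTrans.forgetful _ _).mapIso η).app w
  have hηw : (FibCat.fp Y F).p.IsHomLift (𝟙 (SGA7.pt (K := k) L)) ηw.inv := by
    haveI : (FibCat.fp Y F).p.IsHomLift (𝟙 (SGA7.pt (K := k) L)) (η.inv.toNatTrans.app w) :=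
      BasedNatTrans.isHomLift η.inv rfl
    show (FibCat.fp Y F).p.IsHomLift (𝟙 (SGA7.pt (K := k) L)) (η.inv.toNatTrans.app w ≫ eqToHom (congrArg e.obj hs))
    infer_instance
  let Φ := BasedFunctor.comp e (FibCat.fpFst Y F)
  let p₀ : (yon _).obj (SGA7.pt (K := k) L) ⟶ Z.obj := (J _).uliftYonedaEquiv.symm s
  have hp₀ : p₀ ≫ AlgSt.spMapOfOver Φ = (yon _).map (EssDim.resPt K.val) := by
    apply (J _).uliftYonedaEquiv.injective
    rw [GrothendieckTopology.uliftYonedaEquiv_comp, Equiv.apply_symm_apply]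
    refine (AlgSt.spMapOfOver_app Φ _ s).trans ?_
    rw [GrothendieckTopology.uliftYonedaEquiv_uliftYoneda_map]
    refine congrArg ULift.up ?_
    let m : Φ.obj ⟨SGA7.pt (K := k) L, s⟩ ⟶ a := (FibCat.fpFst Y F).map ηw.hom
    haveI : (FibCat.fp Y F).p.IsHomLift (𝟙 (SGA7.pt (K := k) L)) ηw.inv := hηw
    haveI : (FibCat.fp Y F).p.IsHomLift (𝟙 (SGA7.pt (K := k) L)) ηw.hom := vert_inv _ ηw.symm hηw
    haveI hm : (FibCat.overCat _).p.IsHomLift (𝟙 (SGA7.pt (K := k) L)) m :=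
      (BasedFunctor.isHomLift_iff (FibCat.fpFst Y F) (𝟙 (SGA7.pt (K := k) L)) ηw.hom).2 ‹_›
    have hml : m.left = eqToHom (Φ.w_obj _) := by
      have := IsHomLift.fac' (FibCat.overCat _).p (𝟙 (SGA7.pt (K := k) L)) m
      simp at this
      exact this
    have hwm := Over.w m
    rw [hml] at hwm
    show eqToHom _ ≫ (Φ.obj _).hom = EssDim.resPt K.val
    refine (congrArg (eqToHom (Φ.w_obj _).symm ≫ ·) hwm.symm).trans ?_
    exact (Category.assoc _ _ _).symm.trans ((congrArg (· ≫ a.hom) (eqToHom_trans _ _)).trans (Category.id_comp _))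
  obtain ⟨M, p, hp, htr⟩ := exists_small_point Z.property _ hl hqs d hd _ p₀ hp₀
  let t : (AlgSt.ofSp Z.obj).obj := ⟨SGA7.pt (K := k) M, (J _).uliftYonedaEquiv p⟩
  let ψ : (⟨SGA7.pt (K := k) L, s⟩ : (AlgSt.ofSp Z.obj).obj) ⟶ t := ⟨EssDim.resPt M.val, by
    show Z.obj.obj.map _ ((J _).uliftYonedaEquiv p) = s
    rw [GrothendieckTopology.uliftYonedaEquiv_naturality]
    exact (congrArg (J _).uliftYonedaEquiv hp.symm).trans (Equiv.apply_symm_apply _ _)⟩
  haveI : (AlgSt.ofSp Z.obj).p.IsHomLift (EssDim.resPt M.val) ψ := IsHomLift.map (AlgSt.ofSp Z.obj).p ψ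
  haveI := hηw
  haveI hem : (FibCat.fp Y F).p.IsHomLift (EssDim.resPt M.val) (e.map ψ) :=
    (BasedFunctor.isHomLift_iff e (EssDim.resPt M.val) ψ).2 ‹_›
  haveI hf : (FibCat.fp Y F).p.IsHomLift (EssDim.resPt M.val) (ηw.inv ≫ e.map ψ) := by
    rw [← Category.id_comp (EssDim.resPt M.val)]
    exact @IsHomLift.comp _ _ _ _ (FibCat.fp Y F).p _ _ _ _ _ _ _ _ _ _ hηw hem
  refine le_trans (EssDim.edAt_le_of_descends ((EssDim.descends_isoCl_iff 𝒳 x M).2
    ⟨⟨(FibCat.fpSnd Y F).obj (e.obj t), (FibCat.fpSnd Y F).w_obj _ |>.trans (e.w_obj t)⟩,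
      (FibCat.fpSnd Y F).map (ηw.inv ≫ e.map ψ), ?_⟩)) htr
  exact inferInstanceAs (𝒳.p.IsHomLift (EssDim.resPt M.val) ((FibCat.fpSnd Y F).map (ηw.inv ≫ e.map ψ)))

end Groth.Agent.EssDimLib27
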